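import Cfsg.Agent.H796.JM.FSixC

/-!
# Part (b) of `F16` : the semiregular case (helper796)

`semireg_false` : an elementary abelian semiregular subgroup of order 8 of `M24` does not centralise a subgroup of
order 32 of `E`.
-/

set_option autoImplicit false

open scoped Pointwise

namespace Cfsg.Agent.H796.JM

open Cfsg Cfsg.Agent.SporadicA.GolayBase Cfsg.Agent.SporadicA.OctadFix
open Cfsg.Agent.J4Type Cfsg.Agent.J4Type.CocodeMask Cfsg.Agent.J4Type.TauM24
open Cfsg.Agent.J4Type.TauMask Cfsg.Agent.J4Type.FrameDefs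
open Cfsg.Agent.H857.Card Cfsg.Agent.H857.Classify Cfsg.Agent.H857.WGrp
open Cfsg.Agent.H857.Orbits Cfsg.Agent.H857.Normal Cfsg.Agent.H857.T10Norm

variable {G : Type*} [Group G]

theorem tet_card : ∀ i, (tet i).card = 4 := by decide +kernel

theorem tet_cover : ∀ p : GolayPt, ∃ i, p ∈ tet i := by decide +kernel

theorem even_of_four {T : Finset GolayPt} (h : T.card = 4) : Even T.card := by rw [h]; decide

/-- the tetrads of a sextet cover the points -/
theorem exists_tetrad (F : Frame G) {d : G} (hd : d ∈ F.E hex0) (h1 : d ≠ 1)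
    (hnd : ∀ p q : GolayPt, p ≠ q → F.ε {p, q} ≠ d) (x : GolayPt) :
    ∃ T : Finset GolayPt, x ∈ T ∧ T.card = 4 ∧ F.ε T = d := by
  obtain ⟨n, hn, hnz⟩ := (mem_orb_z (K := F)).2 ⟨hd, h1, by
    rintro ⟨p, q, hpq, h⟩
    exact hnd p q hpq h.symm⟩
  obtain ⟨i, hi⟩ := tet_cover ((F.π ⟨n, hn⟩ : Equiv.Perm GolayPt)⁻¹ x)
  refine ⟨(F.π ⟨n, hn⟩ : Equiv.Perm GolayPt) • tet i, ?_, ?_, ?_⟩
  · rw [Finset.mem_smul_finset]
    exact ⟨_, hi, (F.π ⟨n, hn⟩ : Equiv.Perm GolayPt).apply_symm_apply x⟩
  · rw [Finset.card_smul_finset, tet_card]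
  · rw [← F.π_smul ⟨n, hn⟩ (tet i) (even_of_four (tet_card i)), F.ε_tet, hnz]

/-- two tetrads of a sextet with a common point are equal -/
theorem tetrad_unique (F : Frame G) {T T' : Finset GolayPt} (hT : T.card = 4) (hT' : T'.card = 4)
    (h : F.ε T = F.ε T') {x : GolayPt} (hx : x ∈ T) (hx' : x ∈ T') : T = T' := by
  apply DuadUniq.ε_inj F (even_of_four hT) (even_of_four hT') _ h
  have h1 := card_symmDiff_add T T'
  have h2 : 0 < (T ∩ T').card := Finset.card_pos.2 ⟨x, Finset.mem_inter.2 ⟨hx, hx'⟩⟩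
  omega

/-- the 4-set of two disjoint pairs -/
theorem ε_four (F : Frame G) {a b c d : GolayPt} (hab : a ≠ b) (hcd : c ≠ d) (hac : a ≠ c)
    (had : a ≠ d) (hbc : b ≠ c) (hbd : b ≠ d) :
    F.ε {a, b, c, d} = F.ε {a, b} * F.ε {c, d} ∧ ({a, b, c, d} : Finset GolayPt).card = 4 := by
  have h1 : symmDiff ({a, b} : Finset GolayPt) {c, d} = {a, b, c, d} := by
    have hdisj : Disjoint ({a, b} : Finset GolayPt) {c, d} := by
      rw [Finset.disjoint_left]
      intro x hx hx'
      rw [Finset.mem_insert, Finset.mem_singleton] at hx hx'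
      rcases hx with rfl | rfl <;> rcases hx' with rfl | rfl
      · exact hac rfl
      · exact had rfl
      · exact hbc rfl
      · exact hbd rfl
    rw [hdisj.symmDiff_eq_sup, Finset.sup_eq_union]
    ext x
    simp only [Finset.mem_union, Finset.mem_insert, Finset.mem_singleton, or_assoc]
  refine ⟨?_, ?_⟩
  · rw [← h1, F.ε_mul _ _ (even_pair' hab) (even_pair' hcd)]
  · rw [Finset.card_eq_succ]
    refine ⟨a, {b, c, d}, ?_, rfl, ?_⟩
    · simp [hab, hac, had]
    · rw [Finset.card_eq_succ]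
      refine ⟨b, {c, d}, ?_, rfl, Finset.card_pair hcd⟩
      simp [hbc, hbd]

/-- four points in different orbits are impossible -/
theorem four_orbits (A : Subgroup (Equiv.Perm GolayPt)) (h8 : 8 ≤ Nat.card A)
    (hfree : ∀ u ∈ A, u ≠ 1 → ∀ p, u p ≠ p) (x : Fin 4 → GolayPt)
    (hx : ∀ i j, i ≠ j → ∀ a ∈ A, a (x i) ≠ x j) : False := by
  classical
  have hinj : Function.Injective (fun k : Fin 4 × A => (k.2 : Equiv.Perm GolayPt) (x k.1)) := by
    rintro ⟨i, a⟩ ⟨j, b⟩ h
    have h' : (a : Equiv.Perm GolayPt) (x i) = (b : Equiv.Perm GolayPt) (x j) := h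
    have h1 : ((b : Equiv.Perm GolayPt)⁻¹ * a) (x i) = x j := by
      rw [Equiv.Perm.mul_apply, h']
      exact (b : Equiv.Perm GolayPt).symm_apply_apply _
    have h2 : (b : Equiv.Perm GolayPt)⁻¹ * a ∈ A := A.mul_mem (A.inv_mem b.2) a.2
    have hij : i = j := by
      by_contra hne
      exact hx i j hne _ h2 h1
    subst hij
    have h3 : (b : Equiv.Perm GolayPt)⁻¹ * a = 1 := by
      by_contra hne
      exact hfree _ h2 hne _ h1
    have h4 : a = b := Subtype.ext (inv_mul_eq_one.1 h3).symm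
    rw [h4]
  have h1 := Nat.card_le_card_of_injective _ hinj
  rw [Nat.card_prod, Nat.card_eq_fintype_card (α := Fin 4), Fintype.card_fin,
    Nat.card_eq_fintype_card (α := GolayPt), HexMax.card24] at h1
  omega

/-- points outside one or two orbits -/
theorem exists_out_two (A : Subgroup (Equiv.Perm GolayPt)) (h8 : Nat.card A ≤ 8) (x y : GolayPt) :
    ∃ z, ∀ a ∈ A, a x ≠ z ∧ a y ≠ z := by
  classical
  let _ : Fintype A := Fintype.ofFinite A
  let S : Finset GolayPt := (Finset.univ.image fun a : A => (a : Equiv.Perm GolayPt) x) ∪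
    (Finset.univ.image fun a : A => (a : Equiv.Perm GolayPt) y)
  have hS : S.card ≤ 16 := by
    have h1 : (Finset.univ.image fun a : A => (a : Equiv.Perm GolayPt) x).card ≤ 8 :=
      Finset.card_image_le.trans (by rw [Finset.card_univ, ← Nat.card_eq_fintype_card]; exact h8)
    have h2 : (Finset.univ.image fun a : A => (a : Equiv.Perm GolayPt) y).card ≤ 8 :=
      Finset.card_image_le.trans (by rw [Finset.card_univ, ← Nat.card_eq_fintype_card]; exact h8)
    have h3 := Finset.card_union_le (Finset.univ.image fun a : A => (a : Equiv.Perm GolayPt) x)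
      (Finset.univ.image fun a : A => (a : Equiv.Perm GolayPt) y)
    show ((Finset.univ.image fun a : A => (a : Equiv.Perm GolayPt) x) ∪
      (Finset.univ.image fun a : A => (a : Equiv.Perm GolayPt) y)).card ≤ 16
    omega
  obtain ⟨z, hz⟩ : ∃ z, z ∉ S := by
    by_contra hno
    push Not at hno
    have h1 : (Finset.univ : Finset GolayPt) ⊆ S := fun z _ => hno z
    have h2 := Finset.card_le_card h1
    rw [Finset.card_univ, HexMax.card24] at h2
    omega
  refine ⟨z, fun a ha => ⟨fun h => hz ?_, fun h => hz ?_⟩⟩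
  · exact Finset.mem_union_left _ (Finset.mem_image.2 ⟨⟨a, ha⟩, Finset.mem_univ _, h⟩)
  · exact Finset.mem_union_right _ (Finset.mem_image.2 ⟨⟨a, ha⟩, Finset.mem_univ _, h⟩)

/-- (b) -/
theorem semireg_false [Finite G] (C : J4Type.Compl G) {E' : Subgroup G}
    (hE' : ∀ a ∈ E', a * a = 1) (h8 : 8 ≤ Nat.card (im C.toFrame E'))
    (hD : 32 ≤ Nat.card (E' ⊓ C.E hex0 : Subgroup G))
    (hfree : ∀ u ∈ im C.toFrame E', u ≠ 1 → ∀ p, u p ≠ p) : False := by
  classical
  have hAM : im C.toFrame E' ≤ M24 := im_le C.toFrame E'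
  have hAsq : ∀ b ∈ im C.toFrame E', b * b = 1 := im_sq C.toFrame hE'
  have hcomm := comm_of_sq hE'
  have hAcomm := comm_of_sq hAsq
  set A := im C.toFrame E' with hAdef
  set D : Subgroup G := E' ⊓ C.E hex0 with hDdef
  have hA8 := card_semireg A hAsq hfree
  have hsq : ∀ u ∈ A, ∀ p, u (u p) = p := by
    intro u hu p
    rw [← Equiv.Perm.mul_apply, hAsq u hu]; rfl
  have hlift : ∀ u ∈ A, ∃ n : NE C.toFrame, (n : G) ∈ E' ∧ (C.π n : Equiv.Perm GolayPt) = u :=
    fun u hu => (mem_im C.toFrame).1 hu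
  -- no duads in `D`
  have b0 : ∀ p q : GolayPt, p ≠ q → C.ε {p, q} ∉ D := by
    intro p q hpq hd
    obtain ⟨a, ha, b, hb, ha1, hb1, hab⟩ := FusionFact.exists_two_of_card (K := A) (by omega)
    have h1 : ∀ u ∈ A, u ≠ 1 → u p = q := by
      intro u hu hu1
      obtain ⟨n, hn, rfl⟩ := hlift u hu
      rcases duad_comm (F := C.toFrame) hpq (hcomm _ hn _ hd.1) with h | h
      · exact absurd h (hfree _ hu hu1 p)
      · exact h
    have h2 : a * b ≠ 1 := by
      intro h
      apply hab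
      rw [eq_inv_of_mul_eq_one_left h]
      exact inv_eq_of_mul_eq_one_left (hAsq b hb)
    apply hfree _ (A.mul_mem ha hb) h2 p
    rw [Equiv.Perm.mul_apply, h1 b hb hb1, ← h1 a ha ha1, hsq a ha]
  -- products of two cycles of `u`
  have b1 : ∀ u ∈ A, u ≠ 1 → ∀ x y : GolayPt, C.ε {x, u x} * C.ε {y, u y} ∈ D := by
    intro u hu hu1 x y
    obtain ⟨n, hn, hnu⟩ := hlift u hu
    have hxu : ∀ x, x ≠ u x := fun x h => hfree u hu hu1 x h.symm
    set W' : Subgroup G := C.E hex0 ⊓ Subgroup.centralizer ({(n : G)} : Set G) with hW'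
    have h64 : Nat.card W' ≤ 64 := by
      apply card_le_of_free (F := C.toFrame) (n := n)
        (Subtype.ext (by rw [Subgroup.coe_mul, hnu]; exact hAsq u hu)) (by rw [hnu]; exact hfree u hu hu1)
        inf_le_left
      intro d hd
      exact (Subgroup.mem_centralizer_singleton_iff.1 hd.2).symm
    have hDW : D ≤ W' := by
      intro d hd
      exact ⟨hd.2, Subgroup.mem_centralizer_singleton_iff.2 (hcomm _ hn _ hd.1).symm⟩
    have hmem : ∀ x, C.ε {x, u x} ∈ W' := by
      intro x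
      refine ⟨C.ε_mem _ (even_pair' (hxu x)), Subgroup.mem_centralizer_singleton_iff.2 ?_⟩
      exact (comm_duad (F := C.toFrame) (hxu x) (by rw [hnu]) (by rw [hnu, hsq u hu])).symm
    by_contra hno
    have h1 := four_mul_card_le hDW (fun w hw => E_sq hw.1) (hmem x) (hmem y) (b0 _ _ (hxu x))
      (b0 _ _ (hxu y)) hno
    omega
  -- the sextet of a four-group
  have b2 : ∀ u ∈ A, u ≠ 1 → ∀ v ∈ A, ∀ x y : GolayPt,
      C.ε {x, u x} * C.ε {v x, v (u x)} = C.ε {y, u y} * C.ε {v y, v (u y)} := by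
    intro u hu hu1 v hv x y
    obtain ⟨m, hm, hmv⟩ := hlift v hv
    have hxu : ∀ x, x ≠ u x := fun x h => hfree u hu hu1 x h.symm
    have hd := b1 u hu hu1 x y
    have h1 := hcomm _ hm _ hd.1
    have h2 : ∀ x, (m : G) * C.ε {x, u x} * (m : G)⁻¹ = C.ε {v x, v (u x)} := by
      intro x
      rw [C.π_smul m {x, u x} (even_pair' (hxu x)), hmv, Finset.smul_finset_insert,
        Finset.smul_finset_singleton]
      rfl
    have h3 : C.ε {v x, v (u x)} * C.ε {v y, v (u y)} = C.ε {x, u x} * C.ε {y, u y} := by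
      rw [← h2 x, ← h2 y]
      calc (m : G) * C.ε {x, u x} * (m : G)⁻¹ * ((m : G) * C.ε {y, u y} * (m : G)⁻¹)
          = (m : G) * (C.ε {x, u x} * C.ε {y, u y}) * (m : G)⁻¹ := by group
        _ = C.ε {x, u x} * C.ε {y, u y} := by rw [h1, mul_inv_cancel_right]
    have hE : ∀ p q : GolayPt, p ≠ q → C.ε {p, q} ∈ C.E hex0 := fun p q h => C.ε_mem _ (even_pair' h)
    have hvx : ∀ x, v x ≠ v (u x) := fun x h => hxu x (v.injective h)
    have hc : ∀ a ∈ C.E hex0, ∀ b ∈ C.E hex0, a * b = b * a := (C.E_elem hex0 HexMax.hex0_isHex).2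
    have e1 : C.ε {v y, v (u y)} * C.ε {v y, v (u y)} = 1 := E_sq (hE _ _ (hvx y))
    have e2 : C.ε {x, u x} * C.ε {x, u x} = 1 := E_sq (hE _ _ (hxu x))
    calc C.ε {x, u x} * C.ε {v x, v (u x)}
        = C.ε {x, u x} * (C.ε {v x, v (u x)} * C.ε {v y, v (u y)}) * C.ε {v y, v (u y)} := by
          rw [mul_assoc, mul_assoc, e1, mul_one]
      _ = C.ε {x, u x} * (C.ε {x, u x} * C.ε {y, u y}) * C.ε {v y, v (u y)} := by rw [h3]
      _ = C.ε {y, u y} * C.ε {v y, v (u y)} := by rw [← mul_assoc, e2, one_mul]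
  -- the three points
  obtain ⟨u, hu, -, -, hu1, -, -⟩ := FusionFact.exists_two_of_card (K := A) (by omega)
  obtain ⟨y, hy⟩ := exists_out_two A hA8 none none
  obtain ⟨z, hz⟩ := exists_out_two A hA8 none y
  set x : GolayPt := none with hxdef
  have hyx : ∀ a ∈ A, a y ≠ x := by
    intro a ha h
    exact (hy a ha).1 (by rw [← h, hsq a ha])
  have hzx : ∀ a ∈ A, a z ≠ x := by
    intro a ha h
    exact (hz a ha).1 (by rw [← h, hsq a ha])
  have hzy : ∀ a ∈ A, a z ≠ y := by
    intro a ha h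
    exact (hz a ha).2 (by rw [← h, hsq a ha])
  have h1A : (1 : Equiv.Perm GolayPt) ∈ A := A.one_mem
  obtain ⟨hT1, hT2⟩ := ε_four C.toFrame (a := x) (b := u x) (c := y) (d := u y)
    (fun h => hfree u hu hu1 x h.symm) (fun h => hfree u hu hu1 y h.symm)
    (fun h => (hy 1 h1A).1 h) (fun h => (hyx u hu) h.symm) (fun h => (hy u hu).1 h)
    (fun h => (hy 1 h1A).1 (u.injective h))
  set T : Finset GolayPt := {x, u x, y, u y} with hTdef
  have hdD : C.ε T ∈ D := by rw [hT1]; exact b1 u hu hu1 x y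
  have hd1 : C.ε T ≠ 1 := by
    intro h
    rw [← ε_empty C.toFrame] at h
    have h1 := DuadUniq.ε_inj C.toFrame (even_of_four hT2) (by simp) (by
      rw [show symmDiff T ∅ = T from symmDiff_bot _, hT2]; norm_num) h
    rw [h1] at hT2
    simp at hT2
  obtain ⟨T5, hzT, hT5, hTd⟩ := exists_tetrad C.toFrame hdD.2 hd1 (by
    intro p q hpq h
    exact b0 p q hpq (by rw [h]; exact hdD)) z
  -- images of tetrads
  have hsm : ∀ a ∈ A, ∀ S : Finset GolayPt, S.card = 4 → C.ε S = C.ε T → C.ε (a • S) = C.ε T := by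
    intro a ha S hS h
    obtain ⟨n, hn, rfl⟩ := hlift a ha
    have h1 := C.π_smul n S (even_of_four hS)
    rw [h, hcomm _ hn _ hdD.1, mul_inv_cancel_right] at h1
    exact h1.symm
  have hTx : x ∈ T := by rw [hTdef]; simp
  have hTy : y ∈ T := by rw [hTdef]; simp
  have hzT' : ∀ a ∈ A, z ∉ a • T := by
    intro a ha h
    rw [Finset.mem_smul_finset] at h
    obtain ⟨t, ht, hta⟩ := h
    have hta' : a t = z := hta
    rw [hTdef] at ht
    simp only [Finset.mem_insert, Finset.mem_singleton] at ht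
    rcases ht with rfl | rfl | rfl | rfl
    · exact (hz a ha).1 hta'
    · exact (hz (a * u) (A.mul_mem ha hu)).1 hta'
    · exact (hz a ha).2 hta'
    · exact (hz (a * u) (A.mul_mem ha hu)).2 hta'
  have hout : ∀ p ∈ T5, ∀ a ∈ A, ∀ t ∈ T, a t ≠ p := by
    intro p hp a ha t ht h
    have h1 : a • T = T5 := tetrad_unique C.toFrame (by rw [Finset.card_smul_finset, hT2]) hT5
      ((hsm a ha T hT2 rfl).trans hTd.symm) (x := p) (by
        rw [Finset.mem_smul_finset]
        exact ⟨t, ht, h⟩) hp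
    exact hzT' a ha (by rw [h1]; exact hzT)
  have hin : ∀ p ∈ T5, ∃ a ∈ A, a z = p := by
    intro p hp
    by_contra hno
    push Not at hno
    have key := four_orbits A h8 hfree ![x, y, z, p]
    apply key
    have hpx : ∀ a ∈ A, a p ≠ x := fun a ha h => hout p hp a ha x hTx (by rw [← h, hsq a ha])
    have hpy : ∀ a ∈ A, a p ≠ y := fun a ha h => hout p hp a ha y hTy (by rw [← h, hsq a ha])
    have hpz : ∀ a ∈ A, a p ≠ z := fun a ha h => hno a ha (by rw [← h, hsq a ha])
    intro i j hij a ha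
    fin_cases i <;> fin_cases j
    · exact absurd rfl hij
    · exact (hy a ha).1
    · exact (hz a ha).1
    · exact hout p hp a ha x hTx
    · exact hyx a ha
    · exact absurd rfl hij
    · exact (hz a ha).2
    · exact hout p hp a ha y hTy
    · exact hzx a ha
    · exact hzy a ha
    · exact absurd rfl hij
    · exact hno a ha
    · exact hpx a ha
    · exact hpy a ha
    · exact hpz a ha
    · exact absurd rfl hij
  -- two further points of `T5`
  have hT5z : (T5.erase z).card = 3 := by rw [Finset.card_erase_of_mem hzT, hT5]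
  obtain ⟨p1, hp1, p2, hp2, hp12⟩ := Finset.one_lt_card.1 (show 1 < (T5.erase z).card by omega)
  rw [Finset.mem_erase] at hp1 hp2
  obtain ⟨a, ha, hap⟩ := hin p1 hp1.2
  obtain ⟨b, hb, hbp⟩ := hin p2 hp2.2
  have ha1 : a ≠ 1 := by
    rintro rfl
    exact hp1.1 hap.symm
  have hb1 : b ≠ 1 := by
    rintro rfl
    exact hp2.1 hbp.symm
  have hab : a ≠ b := by
    rintro rfl
    exact hp12 (hap.symm.trans hbp)
  have haT : a • T5 = T5 := by
    apply tetrad_unique C.toFrame (by rw [Finset.card_smul_finset, hT5]) hT5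
      (by rw [hsm a ha T5 hT5 hTd, hTd]) (x := p1) _ hp1.2
    rw [Finset.mem_smul_finset]
    exact ⟨z, hzT, hap⟩
  have habz : b (a z) ∈ T5 := by
    have h1 : (a * b) z = (b * a) z := by rw [hAcomm a ha b hb]
    have h2 : b (a z) = a (b z) := by
      rw [← Equiv.Perm.mul_apply, ← h1, Equiv.Perm.mul_apply]
    rw [h2, ← haT, Finset.mem_smul_finset]
    exact ⟨b z, by rw [hbp]; exact hp2.2, rfl⟩
  have hba1 : b * a ≠ 1 := by
    intro h
    apply hab
    rw [eq_inv_of_mul_eq_one_right h]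
    exact inv_eq_of_mul_eq_one_left (hAsq b hb)
  -- `B w = {w, a w, b w, b a w}`
  have hfour : ∀ w : GolayPt, C.ε {w, a w, b w, b (a w)} = C.ε {w, a w} * C.ε {b w, b (a w)} ∧
      ({w, a w, b w, b (a w)} : Finset GolayPt).card = 4 := by
    intro w
    apply ε_four C.toFrame
    · exact fun h => hfree a ha ha1 w h.symm
    · exact fun h => hfree a ha ha1 w (b.injective h).symm
    · exact fun h => hfree b hb hb1 w h.symm
    · exact fun h => hfree (b * a) (A.mul_mem hb ha) hba1 w h.symm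
    · intro h
      apply hab
      have h1 : (b⁻¹ * a) w = w := by
        rw [Equiv.Perm.mul_apply, h]
        exact b.symm_apply_apply w
      have h2 : b⁻¹ * a = 1 := by
        by_contra hne
        exact hfree _ (A.mul_mem (A.inv_mem hb) ha) hne w h1
      exact (inv_mul_eq_one.1 h2).symm
    · exact fun h => hfree b hb hb1 (a w) h.symm
  have hT5eq : T5 = {z, a z, b z, b (a z)} := by
    symm
    apply Finset.eq_of_subset_of_card_le
    · intro t ht
      simp only [Finset.mem_insert, Finset.mem_singleton] at ht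
      rcases ht with rfl | rfl | rfl | rfl
      · exact hzT
      · rw [hap]; exact hp1.2
      · rw [hbp]; exact hp2.2
      · exact habz
    · rw [hT5, (hfour z).2]
  have hfin : C.ε T = C.ε {x, a x, b x, b (a x)} := by
    rw [← hTd, hT5eq, (hfour z).1, (hfour x).1]
    exact b2 a ha ha1 b hb z x
  have hTe : T = {x, a x, b x, b (a x)} :=
    tetrad_unique C.toFrame hT2 (hfour x).2 hfin (x := x) hTx (by simp)
  rw [hTe] at hTy
  simp only [Finset.mem_insert, Finset.mem_singleton] at hTy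
  rcases hTy with h | h | h | h
  · exact (hy 1 h1A).1 h.symm
  · exact (hy a ha).1 h.symm
  · exact (hy b hb).1 h.symm
  · exact (hy (b * a) (A.mul_mem hb ha)).1 h.symm

end Cfsg.Agent.H796.JM
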