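import Cfsg.Agent.H796.JM.FSixA
import Cfsg.Agent.H796.JM.FSixB

/-!
# `F16` : elementary abelian groups with large image (helper796)
-/

set_option autoImplicit false

open scoped Pointwise

namespace Cfsg.Agent.H796.JM

open Cfsg Cfsg.Agent.SporadicA.GolayBase Cfsg.Agent.SporadicA.OctadFix
open Cfsg.Agent.J4Type
open Cfsg.Agent.H857.Card Cfsg.Agent.H857.Classify Cfsg.Agent.H857.WGrp
open Cfsg.Agent.H857.Orbits

variable {G : Type*} [Group G]

theorem exists_X_of_large [Finite G] [IsSimpleGroup G] (C : J4Type.Compl G) {E' : Subgroup G}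
    (hE' : ∀ a ∈ E', a * a = 1) (hN' : E' ≤ Subgroup.normalizer (C.E hex0 : Set G))
    (hD : 32 ≤ Nat.card (E' ⊓ C.E hex0 : Subgroup G))
    (h8 : 8 * Nat.card (E' ⊓ C.E hex0 : Subgroup G) ≤ Nat.card E') :
    ∃ X : Subgroup G, IsX X ∧ Subgroup.centralizer (E' : Set G) ≤ X := by
  have h1 := card_eq_mul C.toFrame hN'
  have hA8 : 8 ≤ Nat.card (im C.toFrame E') := by
    rw [h1, mul_comm] at h8
    exact Nat.le_of_mul_le_mul_left h8 (by omega)
  by_cases hfix : ∃ u ∈ im C.toFrame E', u ≠ 1 ∧ ∃ p, u p = p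
  · obtain ⟨u, hu, hu1, p, hup⟩ := hfix
    obtain ⟨O, hO, hA⟩ := le_fixOct_of_fix C hE' hA8 hD hu hu1 hup
    obtain ⟨X, hX, -, hc⟩ := cent_le_X C hE' hN' hO hA (by omega) (by omega)
    exact ⟨X, hX, hc⟩
  · push Not at hfix
    exact (semireg_false C hE' hA8 hD hfix).elim

section

open Cfsg.Agent.H860.JM

/-- the group `Spor.J4` -/
local notation "𝒢" => Cfsg.Spor.J4

theorem f16 : F16 geo := by
  have := simple_J
  have := finite_J
  obtain ⟨C, L⟩ := exists_link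
  intro P E hP hE hN hD h8
  have hcs : ∀ (g : 𝒢) (V : Subgroup 𝒢), Nat.card (MulAut.conj g • V : Subgroup 𝒢) = Nat.card V :=
    fun g V => Cfsg.Agent.H856.TwoEleven.card_smul V g
  obtain ⟨g, rfl⟩ := (L.Pt P).1 hP
  obtain ⟨E, rfl⟩ := exists_smul_eq g E
  rw [← Subgroup.smul_inf, hcs] at hD h8
  rw [hcs] at h8
  have hE2 : ∀ a ∈ E, a * a = 1 := by
    intro a ha
    have h1 := hE.sq (g * a * g⁻¹) (conj_mem_smul.2 ha)
    calc a * a = g⁻¹ * (g * a * g⁻¹ * (g * a * g⁻¹)) * g := by group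
      _ = 1 := by rw [h1]; group
  have hN2 : E ≤ Subgroup.normalizer (C.E hex0 : Set 𝒢) := by
    intro a ha
    have h1 := mem_normalizer_smul.1 (hN (conj_mem_smul.2 ha))
    rwa [show g⁻¹ * (g * a * g⁻¹) * g = a by group] at h1
  obtain ⟨X, hX, hc⟩ := exists_X_of_large C hE2 hN2 hD h8
  refine ⟨MulAut.conj g • X, xc_iff.2 (hX.smul g), ?_⟩
  intro c hc'
  rw [mem_smul_iff]
  apply hc
  rw [Subgroup.mem_centralizer_iff] at hc' ⊢
  intro a ha
  have h1 := hc' (g * a * g⁻¹) (conj_mem_smul.2 ha)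
  calc a * (g⁻¹ * c * g) = g⁻¹ * (g * a * g⁻¹ * c) * g := by group
    _ = g⁻¹ * (c * (g * a * g⁻¹)) * g := by rw [h1]
    _ = g⁻¹ * c * g * a := by group

end

end Cfsg.Agent.H796.JM
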